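import Cfsg.Agent.CosetCert.Pack

/-! Generated: the tree. -/

set_option Elab.async false

namespace Cfsg.Agent.CosetCert.HNK120

def treeStore : Store := (.leaf 0xe64000000000e04000000000da4000000000d64000000000d62000000000ca4000000000c64000000000c62000000000bc4000000000ba4000000000ba0000000000b64000000000b60000000000b44000000000b04000000000ae4000000000aa4000000000a84000000000a80000000000a44000000000a40000000000a240000000009e40000000009c40000000009840000000009830000000009820000000009040000000009030000000009020000000008c40000000008c30000000008c20000000008840000000008830000000008820000000008040000000008030000000008020000000007c40000000007c30000000007c20000000007640000000007600000000007440000000007040000000006e40000000006e00000000006840000000006800000000006440000000006400000000006240000000005e40000000005c40000000005c00000000005840000000005800000000005440000000005040000000005030000000005020000000004c40000000004c30000000004c20000000004840000000004440000000004420000000004040000000004030000000004020000000003c40000000003c30000000003c20000000003840000000003830000000003440000000003400000000003240000000003200000000002e40000000002e00000000002c40000000002c00000000002840000000002800000000002640000000002600000000002240000000002200000000002040000000002000000000001c40000000001c30000000001c20000000001840000000001830000000001820000000001440000000001430000000001420000000001040000000001030000000001020000000000c40000000000c00000000000a40000000000a0000000000064000000000060000000000044000000000040000000000024000000000023000000000022000000000004000000000003000000000002000000000000000000000000)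

end Cfsg.Agent.CosetCert.HNK120
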