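import Cfsg.Agent.CosetCert.HNK120.FactsData
import Cfsg.Agent.CosetCert.HNK120.JustData
import Cfsg.Agent.CosetCert.HNK120.EdgeData
import Cfsg.Agent.CosetCert.HNK120.RepData
import Cfsg.Agent.CosetCert.HNK120.TreeData
import Cfsg.Agent.CosetCert.CoxExtra
import Cfsg.Agent.CosetCert.Pack

/-! Generated: the certificate. -/

set_option maxRecDepth 100000

namespace Cfsg.Agent.CosetCert.HNK120

noncomputable def data : Data where
  K := 6
  n := 120
  M := 119
  Nf := 360
  nR := 13
  iv := fun x => if x = 0 then 1 else if x = 1 then 0 else if x = 2 then 3 else if x = 3 then 2 else if x = 4 then 5 else if x = 5 then 4 else x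
  F := get48 factStore
  J := getVar justStore
  E := get48 edgeStore
  L := get48 repStore
  P := get48 treeStore
  W := [

    [0, 0],
    [2, 2, 2],
    [0, 2, 0, 2, 0, 2, 0, 2, 0, 2],
    [4, 4],
    [0, 4, 0, 5],
    [2, 4, 3, 5],
    [],
    [0, 1],
    [1, 0],
    [2, 3],
    [3, 2],
    [4, 5],
    [5, 4]]
  PW := fun k => Nat.land (Nat.shiftRight 0xa60000000000314000000000064000000000020c000000000022000000000010400000000000000000000c428c0000000304a10000000000294611846118461000000000318c000000000021 (Nat.mul 50 k)) 0x3ffffffffffff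
  powers := [

    ([0], 2),
    ([2], 3),
    ([0, 2], 5),
    ([4], 2),
    ([0, 4, 0, 5], 1),
    ([2, 4, 3, 5], 1),
    ([], 0),
    ([0, 1], 1),
    ([1, 0], 1),
    ([2, 3], 1),
    ([3, 2], 1),
    ([4, 5], 1),
    ([5, 4], 1)]

/-- The relators of the presentation. -/
def relWords : List (List (Fin 3 × Bool)) := [
    [(0, true), (0, true)],
    [(1, true), (1, true), (1, true)],
    [(0, true), (1, true), (0, true), (1, true), (0, true), (1, true), (0, true), (1, true), (0, true), (1, true)],
    [(2, true), (2, true)],
    [(0, true), (2, true), (0, true), (2, false)],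
    [(1, true), (2, true), (1, false), (2, false)]]

/-- The numbering of the generators. -/
def enc (b : Fin 3) : Nat := 2 * b.val

/-- The generator of a number. -/
def dec (x : Nat) : Fin 3 × Bool :=
  (if x / 2 = 0 then 0 else if x / 2 = 1 then 1 else 2, Nat.beq (x % 2) 0)

/-- The generators of the subgroup. -/
def subGens : List (FreeGroup (Fin 3)) := []

end Cfsg.Agent.CosetCert.HNK120
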